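import Cfsg.Prelude.Def_Classical

/-!
Projective special unitary groups over isomorphic fields are isomorphic.
-/

set_option autoImplicit false

namespace CfsgLib.GTwoTwo

open Matrix

variable {F K : Type*} [Field F] [Field K] (e : F ≃+* K) (n q : ℕ)

/-- The special linear groups. -/
def slEquiv : SpecialLinearGroup (Fin n) F ≃* SpecialLinearGroup (Fin n) K where
  toFun := SpecialLinearGroup.map e.toRingHom
  invFun := SpecialLinearGroup.map e.symm.toRingHom
  left_inv A := by ext i j; simp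
  right_inv A := by ext i j; simp
  map_mul' := map_mul _

theorem slEquiv_apply (A : SpecialLinearGroup (Fin n) F) :
    Cfsg.slToMat n K (slEquiv e n A) = (Cfsg.slToMat n F A).map e := rfl

theorem herm_map (u v : Fin n → F) :
    Cfsg.hermForm n K q (e ∘ u) (e ∘ v) = e (Cfsg.hermForm n F q u v) := by
  simp [Cfsg.hermForm, map_sum]

theorem mem_SU_map {A : SpecialLinearGroup (Fin n) F} (h : A ∈ Cfsg.SU n F q) :
    slEquiv e n A ∈ Cfsg.SU n K q := by
  intro u v
  obtain ⟨u', rfl⟩ : ∃ u', e ∘ u' = u := ⟨e.symm ∘ u, by ext; simp⟩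
  obtain ⟨v', rfl⟩ : ∃ v', e ∘ v' = v := ⟨e.symm ∘ v, by ext; simp⟩
  have hm : ∀ w : Fin n → F, Cfsg.slToMat n K (slEquiv e n A) *ᵥ (e ∘ w) =
      e ∘ (Cfsg.slToMat n F A *ᵥ w) := fun w => by
    rw [slEquiv_apply]
    funext i
    exact (RingHom.map_mulVec e.toRingHom _ w i).symm
  rw [hm, hm, herm_map, herm_map, h]

theorem map_SU : (Cfsg.SU n F q).map (slEquiv e n).toMonoidHom = Cfsg.SU n K q := by
  ext B
  constructor
  · rintro ⟨A, hA, rfl⟩
    exact mem_SU_map e n q hA
  · intro hB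
    exact ⟨slEquiv e.symm n B, mem_SU_map e.symm n q hB, (slEquiv e n).apply_symm_apply B⟩

theorem psu_equiv (e : F ≃+* K) (n q : ℕ) : Nonempty (Cfsg.PSU n F q ≃* Cfsg.PSU n K q) := by
  let ε : Cfsg.SU n F q ≃* Cfsg.SU n K q :=
    ((slEquiv e n).subgroupMap _).trans (MulEquiv.subgroupCongr (map_SU e n q))
  exact ⟨QuotientGroup.congr _ _ ε (by
    ext x
    constructor
    · rintro ⟨y, hy, rfl⟩
      rw [Subgroup.mem_center_iff]
      intro g
      obtain ⟨g, rfl⟩ := ε.surjective g
      exact ((map_mul ε g y).symm.trans (congrArg ε (Subgroup.mem_center_iff.1 hy g))).trans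
        (map_mul ε y g)
    · intro hx
      refine ⟨ε.symm x, Subgroup.mem_center_iff.2 fun g => ε.injective ?_, ε.apply_symm_apply x⟩
      rw [map_mul, map_mul, ε.apply_symm_apply]
      exact Subgroup.mem_center_iff.1 hx _)⟩

end CfsgLib.GTwoTwo
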